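import Groth.Prelude.Def_SGA4a
import Mathlib.CategoryTheory.ObjectProperty.FullSubcategory
import Mathlib.CategoryTheory.Comma.Over.Pullback
import Mathlib.CategoryTheory.Sites.LocallyBijective
import Mathlib.CategoryTheory.Adjunction.Unique
import Mathlib.CategoryTheory.Limits.Yoneda
import Mathlib
import Mathlib.CategoryTheory.Sites.LeftExact
import Mathlib.CategoryTheory.Limits.FunctorCategory.Basic
import Mathlib.CategoryTheory.Limits.Types.Products

/-!
The reflection onto the closed complement of an open of a sheaf topos, on sections.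
-/

set_option autoImplicit false
universe u

open CategoryTheory CategoryTheory.Limits Opposite

namespace Groth.Agent.ArtinGlue

variable {C : Type u} [SmallCategory C] {J : GrothendieckTopology C}

/-- Sections over `c`. -/
noncomputable abbrev ev (c : Cᵒᵖ) : Sheaf J (Type u) ⥤ Type u :=
  sheafToPresheaf J (Type u) ⋙ (evaluation Cᵒᵖ (Type u)).obj c

lemma prod_sections (U X : Sheaf J (Type u)) (c : Cᵒᵖ) :
    Function.Bijective fun p : (U ⨯ X).obj.obj c =>
      (((prod.fst : U ⨯ X ⟶ U).hom.app c p, (prod.snd : U ⨯ X ⟶ X).hom.app c p) :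
        U.obj.obj c × X.obj.obj c) := by
  haveI : IsIso (prodComparison (ev (J := J) c) U X) := inferInstance
  let e := asIso (prodComparison (ev (J := J) c) U X) ≪≫ Types.binaryProductIso _ _
  have : ⇑e.hom = fun p : (U ⨯ X).obj.obj c =>
      (((prod.fst : U ⨯ X ⟶ U).hom.app c p, (prod.snd : U ⨯ X ⟶ X).hom.app c p) :
        U.obj.obj c × X.obj.obj c) := by
    funext p
    refine Prod.ext ?_ ?_
    · exact ConcreteCategory.congr_hom (show e.hom ≫ (↾Prod.fst) = (ev c).map prod.fst by
        simp [e, Types.binaryProductIso_hom_comp_fst]; exact prodComparison_fst (ev c) U X) p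
    · exact ConcreteCategory.congr_hom (show e.hom ≫ (↾Prod.snd) = (ev c).map prod.snd by
        simp [e, Types.binaryProductIso_hom_comp_snd]; exact prodComparison_snd (ev c) U X) p
  rw [← this]
  exact (isIso_iff_bijective _).1 inferInstance

lemma isIso_iff_app {X Y : Sheaf J (Type u)} (f : X ⟶ Y) :
    IsIso f ↔ ∀ c, Function.Bijective (f.hom.app c) := by
  rw [← isIso_iff_of_reflects_iso f (sheafToPresheaf J (Type u)), NatTrans.isIso_iff_isIso_app]
  exact forall_congr' fun c => isIso_iff_bijective _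

variable {U : Sheaf J (Type u)}

lemma subsingleton_of_isOpen (hU : SGA4.IsOpen U) (c : Cᵒᵖ) : Subsingleton (U.obj.obj c) := by
  haveI : Mono (terminal.from U) := hU
  have h := (mono_iff_injective ((ev c).map (terminal.from U))).1 inferInstance
  haveI : Subsingleton ((ev c).obj (⊤_ (Sheaf J (Type u)))) :=
    (Types.isTerminalEquivUnique _ (terminalIsTerminal.isTerminalObj (ev c) _)).instSubsingleton
  exact ⟨fun s t => h (Subsingleton.elim _ _)⟩

lemma closed_iff (hU : SGA4.IsOpen U) (X : Sheaf J (Type u)) :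
    SGA4.closedCompl U X ↔ ∀ c, U.obj.obj c → Subsingleton (X.obj.obj c) ∧ Nonempty (X.obj.obj c) := by
  show IsIso (prod.fst : U ⨯ X ⟶ U) ↔ _
  rw [isIso_iff_app]
  refine forall_congr' fun c => ⟨fun h s => ⟨⟨fun x y => ?_⟩, ?_⟩, fun h => ⟨fun p q he => ?_, fun s => ?_⟩⟩
  · obtain ⟨p, hp⟩ := (prod_sections U X c).2 (s, x)
    obtain ⟨q, hq⟩ := (prod_sections U X c).2 (s, y)
    obtain ⟨hp₁, hp₂⟩ := Prod.ext_iff.1 hp
    obtain ⟨hq₁, hq₂⟩ := Prod.ext_iff.1 hq
    dsimp only at hp₁ hp₂ hq₁ hq₂
    rw [← hp₂, ← hq₂, h.1 (hp₁.trans hq₁.symm)]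
  · obtain ⟨p, -⟩ := h.2 s
    exact ⟨(prod.snd : U ⨯ X ⟶ X).hom.app c p⟩
  · haveI := (h ((prod.fst : U ⨯ X ⟶ U).hom.app c p)).1
    exact (prod_sections U X c).1 (Prod.ext he (Subsingleton.elim _ _))
  · obtain ⟨x⟩ := (h s).2
    obtain ⟨p, hp⟩ := (prod_sections U X c).2 (s, x)
    exact ⟨p, congrArg Prod.fst hp⟩

variable (U)

/-- Functions from the emptiness of `U`. -/
noncomputable def collapse : (Cᵒᵖ ⥤ Type u) ⥤ (Cᵒᵖ ⥤ Type u) where
  obj X :=
    { obj := fun c => IsEmpty (U.obj.obj c) → X.obj c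
      map := fun {c c'} f => ↾fun g h => X.map f (g ⟨fun s => h.false (U.obj.map f s)⟩)
      map_id := fun c => ConcreteCategory.hom_ext _ _ fun g => funext fun h => by
        show X.map (𝟙 c) (g _) = g h
        simp
      map_comp := fun f f' => ConcreteCategory.hom_ext _ _ fun g => funext fun h => by
        show X.map (f ≫ f') (g _) = X.map f' (X.map f (g _))
        simp }
  map φ :=
    { app := fun c => ↾fun g h => φ.app c (g h)
      naturality := fun c c' f => ConcreteCategory.hom_ext _ _ fun g => funext fun h =>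
        NatTrans.naturality_apply φ f _ }

instance collapse_preservesLimits {K : Type} [SmallCategory K] [FinCategory K] :
    PreservesLimitsOfShape K (collapse U) := by
  refine preservesLimitsOfShape_of_evaluation _ _ fun c => ?_
  exact preservesLimitsOfShape_of_natIso
    (F := (evaluation Cᵒᵖ (Type u)).obj c ⋙ coyoneda.obj (op (ULift.{u} (PLift (IsEmpty (U.obj.obj c))))))
    (NatIso.ofComponents (fun X =>
      { hom := ↾fun (g : ULift.{u} (PLift (IsEmpty (U.obj.obj c))) ⟶ X.obj c) h => g ⟨⟨h⟩⟩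
        inv := ↾fun g => ↾fun h => g h.down.down
        hom_inv_id := by ext g; rfl
        inv_hom_id := by ext g; rfl }) fun {X Y} φ => by ext g; rfl)

/-- The reflection, as a sheaf. -/
noncomputable def reflSh : Sheaf J (Type u) ⥤ Sheaf J (Type u) :=
  sheafToPresheaf J (Type u) ⋙ collapse U ⋙ presheafToSheaf J (Type u)

instance : PreservesFiniteLimits (reflSh U) := by
  haveI : PreservesFiniteLimits (collapse U) := ⟨fun K _ _ => inferInstance⟩
  haveI : PreservesFiniteLimits (sheafToPresheaf J (Type u)) := inferInstance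
  unfold reflSh
  haveI : PreservesFiniteLimits (presheafToSheaf J (Type u)) := inferInstance
  haveI : PreservesFiniteLimits (collapse U ⋙ presheafToSheaf J (Type u)) :=
    comp_preservesFiniteLimits _ _
  exact comp_preservesFiniteLimits _ _

/-- The comparison map. -/
noncomputable def toCollapse (X : Cᵒᵖ ⥤ Type u) : X ⟶ (collapse U).obj X where
  app c := ↾fun x _ => x

/-- The map from the open. -/
noncomputable def openToCollapse (X : Cᵒᵖ ⥤ Type u) : U.obj ⟶ (collapse U).obj X where
  app c := ↾fun s h => (h.false s).elim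
  naturality c c' f := ConcreteCategory.hom_ext _ _ fun s => funext fun h =>
    (h.false (U.obj.map f s)).elim

/-- `X ⟶ i_* i^* X`. -/
noncomputable def eta (X : Sheaf J (Type u)) : X ⟶ (reflSh U).obj X :=
  ⟨toCollapse U X.obj ≫ toSheafify J _⟩

/-- `U ⟶ i_* i^* X`. -/
noncomputable def openTo (X : Sheaf J (Type u)) : U ⟶ (reflSh U).obj X :=
  ⟨openToCollapse U X.obj ≫ toSheafify J _⟩

variable {U}

lemma subsingleton_collapse {X : Cᵒᵖ ⥤ Type u} {c : Cᵒᵖ} (s : U.obj.obj c) :
    Subsingleton (((collapse U).obj X).obj c) :=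
  ⟨fun g g' => funext fun h => (h.false s).elim⟩

lemma reflSh_closed (hU : SGA4.IsOpen U) (X : Sheaf J (Type u)) :
    SGA4.closedCompl U ((reflSh U).obj X) := by
  rw [closed_iff hU]
  refine fun c s => ⟨⟨fun a b => ?_⟩, ⟨(openTo U X).hom.app c s⟩⟩
  have hs : Presieve.IsSeparated J ((reflSh U).obj X).obj :=
    ((isSheaf_iff_isSheaf_of_type J _).1 ((reflSh U).obj X).property).isSeparated
  let t := toSheafify J ((collapse U).obj X.obj)
  refine (hs _ (J.intersection_covering (Presheaf.imageSieve_mem J t a)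
    (Presheaf.imageSieve_mem J t b))).ext fun Y g hg => ?_
  obtain ⟨a', ha⟩ := hg.1
  obtain ⟨b', hb⟩ := hg.2
  haveI := subsingleton_collapse (X := X.obj) (U.obj.map g.op s)
  exact ha.symm.trans ((congrArg _ (Subsingleton.elim a' b')).trans hb)

/-- The map out of `collapse` given on the open and on `X`. -/
noncomputable def collapseDesc (hU : SGA4.IsOpen U) {X : Cᵒᵖ ⥤ Type u} {Z : Cᵒᵖ ⥤ Type u}
    (v : U.obj ⟶ Z) (x : X ⟶ Z) (h : ∀ c s y, v.app c s = x.app c y) : (collapse U).obj X ⟶ Z := by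
  classical
  exact
  { app := fun c => ↾fun g =>
      if hc : IsEmpty (U.obj.obj c) then x.app c (g hc) else v.app c (not_isEmpty_iff.1 hc).some
    naturality := fun c c' f => by
      refine ConcreteCategory.hom_ext _ _ fun g => ?_
      show dite (IsEmpty (U.obj.obj c')) _ _ = Z.map f (dite (IsEmpty (U.obj.obj c)) _ _)
      by_cases hc : IsEmpty (U.obj.obj c)
      · by_cases hc' : IsEmpty (U.obj.obj c')
        · rw [dif_pos hc, dif_pos hc']
          exact NatTrans.naturality_apply x f _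
        · rw [dif_pos hc, dif_neg hc', ← NatTrans.naturality_apply x f]
          exact h c' _ _
      · have hc' : ¬ IsEmpty (U.obj.obj c') := fun h' =>
          hc ⟨fun s => h'.false (U.obj.map f s)⟩
        rw [dif_neg hc, dif_neg hc', ← NatTrans.naturality_apply v f]
        haveI := subsingleton_of_isOpen hU c'
        exact congrArg _ (Subsingleton.elim _ _) }

lemma collapse_hom_ext {X Z : Cᵒᵖ ⥤ Type u} {φ ψ : (collapse U).obj X ⟶ Z}
    (h₁ : toCollapse U X ≫ φ = toCollapse U X ≫ ψ)
    (h₂ : openToCollapse U X ≫ φ = openToCollapse U X ≫ ψ) : φ = ψ := by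
  refine NatTrans.ext (funext fun c => ConcreteCategory.hom_ext _ _ fun g => ?_)
  by_cases hc : IsEmpty (U.obj.obj c)
  · have hg : (toCollapse U X).app c (g hc) = g := funext fun h => rfl
    rw [← hg]
    exact ConcreteCategory.congr_hom (NatTrans.congr_app h₁ c) (g hc)
  · obtain ⟨s⟩ := not_isEmpty_iff.1 hc
    haveI := subsingleton_collapse (X := X) s
    rw [Subsingleton.elim g ((openToCollapse U X).app c s)]
    exact ConcreteCategory.congr_hom (NatTrans.congr_app h₂ c) s

lemma reflSh_hom_ext {X Z : Sheaf J (Type u)} {φ ψ : (reflSh U).obj X ⟶ Z}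
    (h₁ : eta U X ≫ φ = eta U X ≫ ψ) (h₂ : openTo U X ≫ φ = openTo U X ≫ ψ) : φ = ψ := by
  refine Sheaf.hom_ext (sheafify_hom_ext J _ _ Z.property (collapse_hom_ext ?_ ?_))
  · exact (congrArg (fun f : X ⟶ Z => f.hom) h₁ :)
  · exact (congrArg (fun f : U ⟶ Z => f.hom) h₂ :)

lemma exists_desc (hU : SGA4.IsOpen U) {X Z : Sheaf J (Type u)} (v : U ⟶ Z) (x : X ⟶ Z)
    (h : ∀ c s y, v.hom.app c s = x.hom.app c y) :
    ∃ φ : (reflSh U).obj X ⟶ Z, eta U X ≫ φ = x ∧ openTo U X ≫ φ = v := by
  classical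
  let d := collapseDesc hU v.hom x.hom h
  refine ⟨⟨sheafifyLift J d Z.property⟩, Sheaf.hom_ext ?_, Sheaf.hom_ext ?_⟩
  · show (toCollapse U X.obj ≫ toSheafify J _) ≫ sheafifyLift J d Z.property = x.hom
    rw [Category.assoc, toSheafify_sheafifyLift]
    refine NatTrans.ext (funext fun c => ConcreteCategory.hom_ext _ _ fun y => ?_)
    by_cases hc : IsEmpty (U.obj.obj c)
    · exact dif_pos hc
    · exact (dif_neg hc).trans (h c _ y)
  · show (openToCollapse U X.obj ≫ toSheafify J _) ≫ sheafifyLift J d Z.property = v.hom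
    rw [Category.assoc, toSheafify_sheafifyLift]
    refine NatTrans.ext (funext fun c => ConcreteCategory.hom_ext _ _ fun s => ?_)
    have hc : ¬ IsEmpty (U.obj.obj c) := fun h' => h'.false s
    haveI := subsingleton_of_isOpen hU c
    exact (dif_neg hc).trans (congrArg _ (Subsingleton.elim _ _))

/-- The reflection is the pushout `U ⨿_{U × X} X`. -/
lemma isPushout (hU : SGA4.IsOpen U) (X : Sheaf J (Type u)) :
    IsPushout (prod.fst : U ⨯ X ⟶ U) (prod.snd : U ⨯ X ⟶ X) (openTo U X) (eta U X) := by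
  have w : (prod.fst : U ⨯ X ⟶ U) ≫ openTo U X = prod.snd ≫ eta U X := by
    refine Sheaf.hom_ext (NatTrans.ext (funext fun c => ConcreteCategory.hom_ext _ _ fun p => ?_))
    haveI := ((closed_iff hU _).1 (reflSh_closed hU X) c
      ((prod.fst : U ⨯ X ⟶ U).hom.app c p)).1
    exact Subsingleton.elim _ _
  have key : ∀ s : PushoutCocone (prod.fst : U ⨯ X ⟶ U) prod.snd,
      ∃ φ : (reflSh U).obj X ⟶ s.pt, eta U X ≫ φ = s.inr ∧ openTo U X ≫ φ = s.inl := fun s =>
    exists_desc hU s.inl s.inr fun c a y => by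
      obtain ⟨p, hp⟩ := (prod_sections U X c).2 (a, y)
      obtain ⟨hp₁, hp₂⟩ := Prod.ext_iff.1 hp
      dsimp only at hp₁ hp₂
      rw [← hp₁, ← hp₂]
      exact ConcreteCategory.congr_hom (congrArg (fun g : U ⨯ X ⟶ s.pt => g.hom.app c) s.condition) p
  refine ⟨⟨w⟩, ⟨PushoutCocone.isColimitAux' _ fun s =>
    ⟨(key s).choose, (key s).choose_spec.2, (key s).choose_spec.1, fun {m} h₁ h₂ =>
      reflSh_hom_ext ?_ ?_⟩⟩⟩
  · exact h₂.trans (key s).choose_spec.1.symm
  · exact h₁.trans (key s).choose_spec.2.symm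

variable (U) in
/-- The reflection onto the closed complement. -/
noncomputable def refl (hU : SGA4.IsOpen U) :
    Sheaf J (Type u) ⥤ (SGA4.closedCompl U).FullSubcategory :=
  ObjectProperty.lift _ (reflSh U) (reflSh_closed hU)

lemma hom_from_open_unique (hU : SGA4.IsOpen U) {Y : Sheaf J (Type u)} (hY : SGA4.closedCompl U Y) :
    Nonempty (Unique (U ⟶ Y)) := by
  refine ⟨{ default := ⟨{ app := fun c => ↾fun s => (((closed_iff hU Y).1 hY c s).2).some, naturality := ?_ }⟩
            uniq := fun f => ?_ }⟩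
  · intro c c' f
    ext s
    haveI := ((closed_iff hU Y).1 hY c' (U.obj.map f s)).1
    exact Subsingleton.elim _ _
  · refine Sheaf.hom_ext (NatTrans.ext (funext fun c => ConcreteCategory.hom_ext _ _ fun s => ?_))
    haveI := ((closed_iff hU Y).1 hY c s).1
    exact Subsingleton.elim _ _

lemma eta_comp_bijective (hU : SGA4.IsOpen U) (X : Sheaf J (Type u)) {Y : Sheaf J (Type u)}
    (hY : SGA4.closedCompl U Y) :
    Function.Bijective fun φ : (reflSh U).obj X ⟶ Y => eta U X ≫ φ := by
  obtain ⟨hu⟩ := hom_from_open_unique hU hY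
  refine ⟨fun φ ψ h => reflSh_hom_ext h (Subsingleton.elim _ _), fun x => ?_⟩
  obtain ⟨φ, hφ, -⟩ := exists_desc hU hu.default x fun c s y => by
    haveI := ((closed_iff hU Y).1 hY c s).1
    exact Subsingleton.elim _ _
  exact ⟨φ, hφ⟩

lemma eta_naturality {X X' : Sheaf J (Type u)} (m : X ⟶ X') :
    eta U X ≫ (reflSh U).map m = m ≫ eta U X' := by
  refine Sheaf.hom_ext ?_
  show (toCollapse U X.obj ≫ toSheafify J _) ≫ sheafifyMap J ((collapse U).map m.hom) =
    m.hom ≫ toCollapse U X'.obj ≫ toSheafify J _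
  rw [Category.assoc, ← toSheafify_naturality, ← Category.assoc, ← Category.assoc]
  rfl

lemma refl_homEquiv_bijective (hU : SGA4.IsOpen U) (X : Sheaf J (Type u))
    (Y : (SGA4.closedCompl U).FullSubcategory) :
    Function.Bijective fun f : (refl U hU).obj X ⟶ Y => eta U X ≫ (SGA4.closedCompl U).ι.map f :=
  (eta_comp_bijective hU X Y.property).comp ((SGA4.closedCompl U).fullyFaithfulι.map_bijective _ _)

/-- The reflection is left adjoint to the inclusion. -/
noncomputable def reflAdj (hU : SGA4.IsOpen U) : refl U hU ⊣ (SGA4.closedCompl U).ι :=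
  Adjunction.mkOfHomEquiv
    { homEquiv := fun X Y => Equiv.ofBijective _ (refl_homEquiv_bijective hU X Y)
      homEquiv_naturality_left_symm := fun {X' X Y} m g => by
        apply (Equiv.ofBijective _ (refl_homEquiv_bijective hU X' Y)).injective
        rw [Equiv.apply_symm_apply]
        obtain ⟨h, rfl⟩ := (Equiv.ofBijective _ (refl_homEquiv_bijective hU X Y)).surjective g
        rw [Equiv.symm_apply_apply]
        show m ≫ eta U X ≫ _ = eta U X' ≫ (SGA4.closedCompl U).ι.map ((refl U hU).map m ≫ h)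
        rw [Functor.map_comp, ← Category.assoc, ← eta_naturality, Category.assoc]
        rfl
      homEquiv_naturality_right := fun {X Y Y'} f g => by
        show eta U X ≫ (SGA4.closedCompl U).ι.map (f ≫ g) =
          (eta U X ≫ (SGA4.closedCompl U).ι.map f) ≫ (SGA4.closedCompl U).ι.map g
        rw [Functor.map_comp, Category.assoc]
        rfl }

lemma refl_preservesFiniteLimits (hU : SGA4.IsOpen U) : PreservesFiniteLimits (refl U hU) := by
  haveI : PreservesFiniteLimits (refl U hU ⋙ (SGA4.closedCompl U).ι) :=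
    inferInstanceAs (PreservesFiniteLimits (reflSh U))
  exact preservesFiniteLimits_of_reflects_of_preserves _ (SGA4.closedCompl U).ι

/-- A morphism which is bijective over the open and becomes invertible after reflection is invertible. -/
lemma isIso_of_refl {X Y : Sheaf J (Type u)} (m : X ⟶ Y)
    (hb : ∀ c, U.obj.obj c → Function.Bijective (m.hom.app c))
    [IsIso ((reflSh U).map m)] : IsIso m := by
  have hW : J.W ((collapse U).map m.hom) := by
    rw [GrothendieckTopology.W_iff]
    exact inferInstanceAs (IsIso ((reflSh U).map m))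
  haveI := hW.isLocallyInjective
  haveI := hW.isLocallySurjective
  suffices hl : Presheaf.IsLocallyInjective J m.hom ∧ Presheaf.IsLocallySurjective J m.hom from
    (J.W_sheafToPresheaf_map_iff_isIso m).1 ((J.W_iff_isLocallyBijective m.hom).2 hl)
  refine ⟨⟨fun {c} x y hxy => ?_⟩, ⟨fun {c} y => ?_⟩⟩
  · refine J.superset_covering ?_ (Presheaf.equalizerSieve_mem J ((collapse U).map m.hom)
      ((toCollapse U X.obj).app c x) ((toCollapse U X.obj).app c y) ?_)
    · intro Z g hg
      show X.obj.map g.op x = X.obj.map g.op y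
      by_cases hc : IsEmpty (U.obj.obj (op Z))
      · exact congrFun hg hc
      · obtain ⟨s⟩ := not_isEmpty_iff.1 hc
        refine (hb _ s).1 ?_
        rw [NatTrans.naturality_apply, NatTrans.naturality_apply, hxy]
    · exact funext fun _ => hxy
  · refine J.superset_covering ?_ (Presheaf.imageSieve_mem J ((collapse U).map m.hom)
      ((toCollapse U Y.obj).app (op c) y))
    rintro Z g ⟨t, ht⟩
    by_cases hc : IsEmpty (U.obj.obj (op Z))
    · exact ⟨t hc, congrFun ht hc⟩
    · obtain ⟨s⟩ := not_isEmpty_iff.1 hc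
      exact (hb _ s).2 _

lemma bijective_of_isIso_star {X Y : Sheaf J (Type u)} (m : X ⟶ Y) [IsIso ((Over.star U).map m)]
    (c : Cᵒᵖ) (s : U.obj.obj c) : Function.Bijective (m.hom.app c) := by
  haveI : IsIso (prod.map (𝟙 U) m) := by
    have h : IsIso (((Over.star U).map m).left) :=
      inferInstanceAs (IsIso ((Over.forget U).map ((Over.star U).map m)))
    have e : ((Over.star U).map m).left = prod.map (𝟙 U) m := by
      apply Limits.prod.hom_ext <;> simp [Over.star]
    rw [← e]
    exact h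
  have hb := (isIso_iff_app (prod.map (𝟙 U) m)).1 inferInstance c
  have hf : ∀ p, (prod.fst : U ⨯ Y ⟶ U).hom.app c ((prod.map (𝟙 U) m).hom.app c p) =
      (prod.fst : U ⨯ X ⟶ U).hom.app c p := fun p =>
    ConcreteCategory.congr_hom (congrArg (fun g : U ⨯ X ⟶ U => g.hom.app c)
      ((prod.map_fst (𝟙 U) m).trans (Category.comp_id _))) p
  have hs : ∀ p, (prod.snd : U ⨯ Y ⟶ Y).hom.app c ((prod.map (𝟙 U) m).hom.app c p) =
      m.hom.app c ((prod.snd : U ⨯ X ⟶ X).hom.app c p) := fun p =>
    ConcreteCategory.congr_hom (congrArg (fun g : U ⨯ X ⟶ Y => g.hom.app c) (prod.map_snd (𝟙 U) m)) p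
  refine ⟨fun x y hxy => ?_, fun y => ?_⟩
  · obtain ⟨p, hp⟩ := (prod_sections U X c).2 (s, x)
    obtain ⟨q, hq⟩ := (prod_sections U X c).2 (s, y)
    obtain ⟨hp₁, hp₂⟩ := Prod.ext_iff.1 hp
    obtain ⟨hq₁, hq₂⟩ := Prod.ext_iff.1 hq
    dsimp only at hp₁ hp₂ hq₁ hq₂
    rw [← hp₂, ← hq₂, hb.1 ((prod_sections U Y c).1 (Prod.ext ?_ ?_) :
      (prod.map (𝟙 U) m).hom.app c p = (prod.map (𝟙 U) m).hom.app c q)]
    · exact (hf p).trans ((hp₁.trans hq₁.symm).trans (hf q).symm)
    · exact (hs p).trans ((by rw [hp₂, hq₂, hxy] : _ = _).trans (hs q).symm)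
  · obtain ⟨q, hq⟩ := (prod_sections U Y c).2 (s, y)
    obtain ⟨p, rfl⟩ := hb.2 q
    exact ⟨_, (hs p).symm.trans (congrArg Prod.snd hq)⟩

lemma isIso_of_star_of_leftAdjoint (hU : SGA4.IsOpen U)
    {L : Sheaf J (Type u) ⥤ (SGA4.closedCompl U).FullSubcategory}
    (adj : L ⊣ (SGA4.closedCompl U).ι)
    {X Y : Sheaf J (Type u)} (m : X ⟶ Y) (h₁ : IsIso ((Over.star U).map m)) (h₂ : IsIso (L.map m)) :
    IsIso m := by
  haveI : IsIso ((reflSh U).map m) := by
    have : IsIso ((refl U hU).map m) :=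
      (NatIso.isIso_map_iff (adj.leftAdjointUniq (reflAdj hU)) m).1 h₂
    exact inferInstanceAs (IsIso ((SGA4.closedCompl U).ι.map ((refl U hU).map m)))
  exact isIso_of_refl m fun c s => bijective_of_isIso_star (U := U) m c s

end Groth.Agent.ArtinGlue
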