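import Mathlib.CategoryTheory.Comma.Basic
import Mathlib.CategoryTheory.Limits.Shapes.Pullback.IsPullback.Basic
import Mathlib.CategoryTheory.Limits.Preserves.Shapes.Pullbacks
import Mathlib.CategoryTheory.Adjunction.FullyFaithful
import Mathlib.CategoryTheory.Adjunction.Limits

/-!
A category recovered from two jointly conservative left exact localisations, one vanishing on the
other.
-/

set_option autoImplicit false

universe v u v₁ u₁ v₂ u₂

open CategoryTheory CategoryTheory.Limits

namespace Groth.Agent.ArtinGlue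

variable {E : Type u} [Category.{v} E] [HasPullbacks E] {A : Type u₁} [Category.{v₁} A]
  {B : Type u₂} [Category.{v₂} B]

theorem nonempty_equiv_comma (j : E ⥤ A) (R : A ⥤ E) (adj₁ : j ⊣ R) [R.Full] [R.Faithful]
    (L : E ⥤ B) (i : B ⥤ E) (adj : L ⊣ i) [i.Full] [i.Faithful]
    [PreservesLimitsOfShape WalkingCospan j] [PreservesLimitsOfShape WalkingCospan L]
    (hcons : ∀ {X Y : E} (f : X ⟶ Y), IsIso (j.map f) → IsIso (L.map f) → IsIso f)
    (hterm : ∀ {b b' : B} (f : i.obj b ⟶ i.obj b'), IsIso (j.map f)) :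
    Nonempty (E ≌ Comma (𝟭 B) (R ⋙ L)) := by
  let F : E ⥤ Comma (𝟭 B) (R ⋙ L) :=
    { obj := fun X => { left := L.obj X, right := j.obj X, hom := L.map (adj₁.unit.app X) }
      map := fun {X Y} f =>
        { left := L.map f, right := j.map f
          w := by
            show L.map f ≫ L.map (adj₁.unit.app Y) = L.map (adj₁.unit.app X) ≫ L.map (R.map (j.map f))
            rw [← L.map_comp, ← L.map_comp]
            exact congrArg L.map (adj₁.unit.naturality f) }
      map_id := fun X => CommaMorphism.ext (L.map_id X) (j.map_id X)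
      map_comp := fun f g => CommaMorphism.ext (L.map_comp f g) (j.map_comp f g) }
  have hLη : ∀ X, IsIso (L.map (adj.unit.app X)) := fun X => inferInstance
  have hjη : ∀ X, IsIso (j.map (adj₁.unit.app X)) := fun X => inferInstance
  have hjterm : ∀ {Z : E} {W : A} {b : B} (φ : b ⟶ L.obj (R.obj W))
      {p₁ : Z ⟶ i.obj b} {p₂ : Z ⟶ R.obj W},
      IsPullback p₁ p₂ (i.map φ) (adj.unit.app (R.obj W)) → IsIso (j.map p₂) ∧ IsIso (L.map p₁) := by
    intro Z W b φ p₁ p₂ h
    haveI := hterm (i.map φ)
    haveI := hLη (R.obj W)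
    exact ⟨(h.map j).isIso_snd_of_isIso, (h.map L).isIso_fst_of_isIso⟩
  have sq : ∀ X : E, IsPullback (adj.unit.app X) (adj₁.unit.app X) (i.map (L.map (adj₁.unit.app X)))
      (adj.unit.app (R.obj (j.obj X))) := by
    intro X
    have hP := IsPullback.of_hasPullback (i.map (L.map (adj₁.unit.app X))) (adj.unit.app (R.obj (j.obj X)))
    have w : adj.unit.app X ≫ i.map (L.map (adj₁.unit.app X)) = adj₁.unit.app X ≫ adj.unit.app _ :=
      (adj.unit.naturality (adj₁.unit.app X)).symm
    let θ := hP.lift _ _ w
    have h₁ : θ ≫ pullback.fst _ _ = adj.unit.app X := hP.lift_fst _ _ w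
    have h₂ : θ ≫ pullback.snd _ _ = adj₁.unit.app X := hP.lift_snd _ _ w
    obtain ⟨hs, hf⟩ := hjterm (L.map (adj₁.unit.app X)) hP
    haveI := hs
    haveI := hf
    haveI : IsIso θ := by
      refine hcons θ ?_ ?_
      · haveI : IsIso (j.map θ ≫ j.map (pullback.snd _ _)) := by
          rw [← j.map_comp, h₂]; exact hjη X
        exact IsIso.of_isIso_comp_right (j.map θ) (j.map (pullback.snd _ _))
      · haveI : IsIso (L.map θ ≫ L.map (pullback.fst _ _)) := by
          rw [← L.map_comp, h₁]; exact hLη X
        exact IsIso.of_isIso_comp_right (L.map θ) (L.map (pullback.fst _ _))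
    exact IsPullback.of_iso_pullback ⟨w⟩ (asIso θ) h₁ h₂
  haveI : F.Faithful := ⟨fun {X Y} f g h => by
    refine (sq Y).hom_ext ?_ ?_
    · exact (adj.unit.naturality f).trans ((congrArg (fun k => adj.unit.app X ≫ i.map k)
        (congrArg CommaMorphism.left h :)).trans (adj.unit.naturality g).symm)
    · exact (adj₁.unit.naturality f).trans ((congrArg (fun k => adj₁.unit.app X ≫ R.map k)
        (congrArg CommaMorphism.right h :)).trans (adj₁.unit.naturality g).symm)⟩
  haveI : F.Full := ⟨fun {X Y} g => by
    have w : (adj.unit.app X ≫ i.map g.left) ≫ i.map (L.map (adj₁.unit.app Y)) =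
        (adj₁.unit.app X ≫ R.map g.right) ≫ adj.unit.app (R.obj (j.obj Y)) := by
      have hg : g.left ≫ L.map (adj₁.unit.app Y) = L.map (adj₁.unit.app X) ≫ L.map (R.map g.right) :=
        g.w
      rw [Category.assoc, ← i.map_comp, hg, ← L.map_comp]
      exact (adj.unit.naturality (adj₁.unit.app X ≫ R.map g.right)).symm
    refine ⟨(sq Y).lift _ _ w, CommaMorphism.ext ?_ ?_⟩
    · refine (adj.homEquiv _ _).injective ?_
      refine Eq.trans ?_ ((sq Y).lift_fst _ _ w)
      rw [Adjunction.homEquiv_unit]
      exact (adj.unit.naturality _).symm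
    · refine (adj₁.homEquiv _ _).injective ?_
      refine Eq.trans ?_ ((sq Y).lift_snd _ _ w)
      rw [Adjunction.homEquiv_unit]
      exact (adj₁.unit.naturality _).symm⟩
  haveI : F.EssSurj := ⟨fun K => by
    let φ : K.left ⟶ L.obj (R.obj K.right) := K.hom
    have hP := IsPullback.of_hasPullback (i.map φ) (adj.unit.app (R.obj K.right))
    obtain ⟨hs, hf⟩ := hjterm φ hP
    haveI := hs
    haveI := hf
    refine ⟨pullback (i.map φ) (adj.unit.app (R.obj K.right)), ⟨Comma.isoMk
      (asIso (L.map (pullback.fst _ _) ≫ adj.counit.app K.left))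
      (asIso (j.map (pullback.snd _ _) ≫ adj₁.counit.app K.right)) ?_⟩⟩
    show (L.map (pullback.fst _ _) ≫ adj.counit.app K.left) ≫ φ =
      L.map (adj₁.unit.app _) ≫ L.map (R.map (j.map (pullback.snd _ _) ≫ adj₁.counit.app K.right))
    have e : adj₁.unit.app (pullback (i.map φ) (adj.unit.app (R.obj K.right))) ≫
        R.map (j.map (pullback.snd _ _) ≫ adj₁.counit.app K.right) = pullback.snd _ _ := by
      erw [Functor.map_comp, ← Category.assoc, adj₁.unit_naturality, Category.assoc,
        adj₁.right_triangle_components, Category.comp_id]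
    rw [← L.map_comp, e, Category.assoc]
    erw [← adj.counit.naturality φ]
    rw [Functor.comp_map, ← L.map_comp_assoc, pullback.condition, L.map_comp, Category.assoc]
    erw [adj.left_triangle_components, Category.comp_id]⟩
  haveI : F.IsEquivalence := {}
  exact ⟨F.asEquivalence⟩

end Groth.Agent.ArtinGlue
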